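import Cfsg.Agent.SymAutomizer.Basic

/-! Abelian Sylow subgroups of alternating groups. -/

set_option autoImplicit false

namespace CfsgLib.SymAutomizer

open Subgroup Equiv.Perm

theorem commute_of_isPGroup {G : Type*} [Group G] [Finite G] {p : ℕ} [Fact p.Prime] (P : Sylow p G)
    (hP : IsMulCommutative (P : Subgroup G)) {H : Subgroup G} (hH : IsPGroup p H) {a b : G}
    (ha : a ∈ H) (hb : b ∈ H) : a * b = b * a := by
  obtain ⟨Q, hQ⟩ := hH.exists_le_sylow
  obtain ⟨g, hg⟩ := MulAction.exists_smul_eq G Q P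
  have key : ∀ x ∈ H, g * x * g⁻¹ ∈ (P : Subgroup G) := by
    intro x hx
    rw [← hg, Sylow.coe_subgroup_smul, mem_pointwise_smul_iff_inv_smul_mem]
    simpa [MulAut.smul_def, mul_assoc] using hQ hx
  have h := congrArg Subtype.val
    (hP.is_comm.comm (⟨_, key a ha⟩ : (P : Subgroup G)) ⟨_, key b hb⟩)
  have h' : g * (a * b) * g⁻¹ = g * (b * a) * g⁻¹ := by
    calc g * (a * b) * g⁻¹ = (g * a * g⁻¹) * (g * b * g⁻¹) := by group
      _ = (g * b * g⁻¹) * (g * a * g⁻¹) := h
      _ = _ := by group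
  exact mul_left_cancel (mul_right_cancel h')

/-- A non-commutative group of order eight in `A₆`. -/
theorem exists_two_group_alt_six : ∃ (H : Subgroup (alternatingGroup (Fin 6))) (a b : alternatingGroup (Fin 6)),
    IsPGroup 2 H ∧ a ∈ H ∧ b ∈ H ∧ a * b ≠ b * a := by
  let a : alternatingGroup (Fin 6) := ⟨Equiv.swap 0 1 * Equiv.swap 1 2 * Equiv.swap 2 3 * Equiv.swap 4 5, by rw [mem_alternatingGroup]; decide⟩
  let b : alternatingGroup (Fin 6) := ⟨Equiv.swap 0 2 * Equiv.swap 4 5, by rw [mem_alternatingGroup]; decide⟩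
  let S : Finset (alternatingGroup (Fin 6)) := {1, a, a*a, a*a*a, b, a*b, a*a*b, a*a*a*b}
  have hmul : ∀ x ∈ S, ∀ y ∈ S, x * y ∈ S := by decide +kernel
  have hinv : ∀ x ∈ S, x⁻¹ ∈ S := by decide +kernel
  let H : Subgroup (alternatingGroup (Fin 6)) :=
    { carrier := S
      one_mem' := by simp [S]
      mul_mem' := fun hx hy => hmul _ hx _ hy
      inv_mem' := fun hx => hinv _ hx }
  have hab : a * b ≠ b * a := by decide +kernel
  refine ⟨H, a, b, ?_, by simp [H, S], by simp [H, S], hab⟩
  have h8 : ∀ x ∈ S, x ^ 8 = 1 := by decide +kernel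
  intro x
  exact ⟨3, Subtype.ext (h8 _ x.2)⟩

/-- For `n ≥ 6` the Sylow 2-subgroups of `A_n` are not abelian. -/
theorem not_isMulCommutative_two (n : ℕ) (hn : 6 ≤ n) (P : Sylow 2 (alternatingGroup (Fin n))) :
    ¬ IsMulCommutative (P : Subgroup (alternatingGroup (Fin n))) := by
  intro hP
  have : Fact (Nat.Prime 2) := ⟨Nat.prime_two⟩
  obtain ⟨H, a, b, hH, ha, hb, hab⟩ := exists_two_group_alt_six
  let ι := Fin.castLEquiv hn
  have hs : ∀ x : alternatingGroup (Fin 6), extendDomainHom ι (x : Equiv.Perm (Fin 6)) ∈ alternatingGroup (Fin n) := by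
    intro x
    rw [mem_alternatingGroup, extendDomainHom_apply, sign_extendDomain]
    exact mem_alternatingGroup.1 x.2
  let f : alternatingGroup (Fin 6) →* alternatingGroup (Fin n) :=
    ((extendDomainHom ι).comp (alternatingGroup (Fin 6)).subtype).codRestrict _ hs
  have hf : Function.Injective f := fun x y h => Subtype.ext (extendDomainHom_injective ι (congrArg Subtype.val h))
  have := commute_of_isPGroup P hP (hH.map f) (Subgroup.mem_map_of_mem f ha) (Subgroup.mem_map_of_mem f hb)
  rw [← map_mul, ← map_mul] at this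
  exact hab (hf this)

/-- A Sylow subgroup of `A_n` for `n < 2p` is cyclic. -/
theorem isCyclic_sylow_of_lt (n : ℕ) {p : ℕ} [Fact p.Prime] (hn : n < 2 * p)
    (P : Sylow p (alternatingGroup (Fin n))) : IsCyclic (P : Subgroup (alternatingGroup (Fin n))) := by
  obtain ⟨k, hk⟩ := IsPGroup.iff_card.1 P.isPGroup'
  have h1 : Nat.card (P : Subgroup (alternatingGroup (Fin n))) ∣ n.factorial := by
    have := (Subgroup.card_subgroup_dvd_card (P : Subgroup (alternatingGroup (Fin n)))).trans
      (Subgroup.card_subgroup_dvd_card (alternatingGroup (Fin n)))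
    rwa [Nat.card_eq_fintype_card (α := Equiv.Perm (Fin n)), Fintype.card_perm, Fintype.card_fin] at this
  apply isCyclic_of_card_dvd_prime (p := p)
  rw [hk] at h1 ⊢
  rcases le_or_gt k 1 with h | h
  · calc p ^ k ∣ p ^ 1 := pow_dvd_pow p h
      _ = p := pow_one p
  · exact absurd ((pow_dvd_pow p h).trans h1) (not_sq_dvd_factorial (Fact.out : p.Prime) hn)

/-- For odd `p` and `2p ≤ n`, an abelian Sylow `p`-subgroup of `A_n` has automizer of even order. -/
theorem two_dvd_index_alt (n : ℕ) {p : ℕ} [Fact p.Prime] (hp2 : p ≠ 2) (hn : 2 * p ≤ n)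
    (P : Sylow p (alternatingGroup (Fin n))) (hP : IsMulCommutative (P : Subgroup (alternatingGroup (Fin n)))) :
    2 ∣ ((centralizer ((P : Subgroup (alternatingGroup (Fin n))) : Set (alternatingGroup (Fin n)))).subgroupOf
      (normalizer ((P : Subgroup (alternatingGroup (Fin n))) : Set (alternatingGroup (Fin n))))).index := by
  have hp := (Fact.out : p.Prime)
  have hp3 : 3 ≤ p := by have := hp.two_le; omega
  let ι := Fin.castLEquiv (show p ≤ n by omega)
  set c0 : Equiv.Perm (Fin n) := (finRotate p).extendDomain ι with hc0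
  have hcyc : c0.IsCycle := (isCycle_finRotate_of_le (by omega)).extendDomain _
  have hsupp : c0.support.card = p := by
    rw [hc0]
    rw [card_support_extend_domain, support_finRotate_of_le (by omega), Finset.card_univ, Fintype.card_fin]
  have heven : c0 ∈ alternatingGroup (Fin n) := by
    rw [mem_alternatingGroup, hcyc.sign, hsupp, (hp.odd_of_ne_two hp2).neg_one_pow, neg_neg]
  have hord : orderOf (⟨c0, heven⟩ : alternatingGroup (Fin n)) = p := by
    rw [← Subgroup.orderOf_coe]
    exact hcyc.orderOf.trans hsupp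
  obtain ⟨g, hg⟩ := exists_conj_mem_sylow P hord
  set x := g * (⟨c0, heven⟩ : alternatingGroup (Fin n)) * g⁻¹ with hx
  have hsx : (x : Equiv.Perm (Fin n)).support.card + 2 ≤ Fintype.card (Fin n) := by
    rw [hx, Subgroup.coe_mul, Subgroup.coe_mul, InvMemClass.coe_inv, card_support_conj, hsupp, Fintype.card_fin]
    omega
  have hconj : IsConj x x⁻¹ := alternatingGroup.isConj_of
    (by rw [InvMemClass.coe_inv]; exact isConj_iff_cycleType_eq.2 (cycleType_inv _).symm) hsx
  obtain ⟨a, ha⟩ := isConj_iff.1 hconj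
  refine two_dvd_index_of_conj_inv P hP hg ?_ (g := a⁻¹) (by rwa [inv_inv])
  intro h
  have h2 : x ^ 2 = 1 := by rw [sq]; nth_rewrite 1 [← h]; exact inv_mul_cancel _
  rw [hx, conj_pow, conj_eq_one_iff] at h2
  have := Nat.le_of_dvd two_pos (hord ▸ orderOf_dvd_of_pow_eq_one h2)
  omega

end CfsgLib.SymAutomizer
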