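import Mathlib

/-! The Sylow 2-subgroups of `A₅`. -/

set_option autoImplicit false

namespace CfsgLib.SymAutomizer

open Subgroup

local notation "A5" => alternatingGroup (Fin 5)

theorem normalizer_map_equiv {G : Type*} [Group G] (φ : G ≃* G) (H : Subgroup G) :
    normalizer ((H.map φ.toMonoidHom : Subgroup G) : Set G) = (normalizer (H : Set G)).map φ.toMonoidHom := by
  ext a
  rw [Subgroup.mem_map_equiv, mem_normalizer_iff, mem_normalizer_iff]
  simp only [Subgroup.mem_map_equiv]
  constructor
  · intro h x
    simpa using h (φ x)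
  · intro h x
    simpa using h (φ.symm x)

theorem centralizer_map_equiv {G : Type*} [Group G] (φ : G ≃* G) (H : Subgroup G) :
    centralizer ((H.map φ.toMonoidHom : Subgroup G) : Set G) = (centralizer (H : Set G)).map φ.toMonoidHom := by
  ext a
  rw [Subgroup.mem_map_equiv, mem_centralizer_iff, mem_centralizer_iff]
  simp only [SetLike.mem_coe, Subgroup.mem_map_equiv]
  constructor
  · intro h x hx
    exact φ.injective (by simpa using h (φ x) (by simpa using hx))
  · intro h x hx
    exact φ.symm.injective (by simpa using h (φ.symm x) hx)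

/-- The four-group fixing the last point. -/
def fourA5 : Subgroup A5 where
  carrier := {x | (x : Equiv.Perm (Fin 5)) 4 = 4 ∧ x * x = 1}
  one_mem' := by simp
  mul_mem' := by
    intro a b ha hb
    revert a b
    simp only [Set.mem_setOf_eq]
    decide +kernel
  inv_mem' := by
    intro a ha
    have : a⁻¹ = a := inv_eq_of_mul_eq_one_right ha.2
    rw [this]; exact ha

instance fourA5_decMem : DecidablePred (· ∈ fourA5) :=
  fun x => inferInstanceAs (Decidable ((x : Equiv.Perm (Fin 5)) 4 = 4 ∧ x * x = 1))

theorem nat_card_fourA5 : Nat.card fourA5 = 4 := by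
  rw [Nat.card_eq_fintype_card]; decide +kernel

theorem isKleinFour_fourA5 : IsKleinFour fourA5 := by
  refine ⟨nat_card_fourA5, ?_⟩
  refine (Nat.dvd_prime Nat.prime_two).1 (Monoid.exponent_dvd_of_forall_pow_eq_one fun x => ?_) |>.resolve_left ?_
  · rw [sq]; exact Subtype.ext x.2.2
  · intro h
    have := Monoid.exp_eq_one_iff.1 h
    have h4 := nat_card_fourA5
    have : Nat.card fourA5 = 1 := Nat.card_of_subsingleton (1 : fourA5)
    omega

theorem nat_card_normalizer_fourA5 : Nat.card (normalizer (fourA5 : Set A5)) = 12 := by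
  have e : ∀ a, a ∈ normalizer (fourA5 : Set A5) ↔ ∀ h : A5, h ∈ fourA5 → a * h * a⁻¹ ∈ fourA5 := by
    intro a
    rw [mem_normalizer_iff]
    refine ⟨fun h x hx => (h x).1 hx, fun h x => ⟨h x, fun hx => ?_⟩⟩
    let f : fourA5 → fourA5 := fun y => ⟨a * y * a⁻¹, h y y.2⟩
    have hf : Function.Injective f := fun y z hyz => by
      ext1; simpa [f] using hyz
    obtain ⟨y, hy⟩ := (Finite.injective_iff_surjective.1 hf) ⟨_, hx⟩
    have hy' : (y : A5) = x := by simpa [f] using hy
    exact hy' ▸ y.2
  rw [Nat.card_congr (Equiv.subtypeEquivRight e), Nat.card_eq_fintype_card]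
  decide +kernel

theorem nat_card_centralizer_fourA5 : Nat.card (centralizer (fourA5 : Set A5)) = 4 := by
  have e : ∀ a, a ∈ centralizer (fourA5 : Set A5) ↔ ∀ h : A5, h ∈ fourA5 → h * a = a * h := by
    intro a; exact mem_centralizer_iff
  rw [Nat.card_congr (Equiv.subtypeEquivRight e), Nat.card_eq_fintype_card]
  decide +kernel

theorem sylow_two_A5 (P : Sylow 2 A5) :
    ((centralizer ((P : Subgroup A5) : Set A5)).subgroupOf
      (normalizer ((P : Subgroup A5) : Set A5))).index = 3 ∧ IsKleinFour (P : Subgroup A5) := by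
  have : Fact (Nat.Prime 2) := ⟨Nat.prime_two⟩
  let P0 : Sylow 2 A5 := Sylow.ofCard fourA5 (by
    rw [nat_card_fourA5, nat_card_alternatingGroup, Nat.card_fin]
    have : (Nat.factorial 5 / 2).factorization 2 = 2 := by
      rw [show Nat.factorial 5 / 2 = 60 by rfl, Nat.factorization_def _ Nat.prime_two]
      rw [show (60 : ℕ) = 2 ^ 2 * 15 by rfl, padicValNat.mul (by norm_num) (by norm_num),
        padicValNat.prime_pow, padicValNat.eq_zero_of_not_dvd (by norm_num : ¬ 2 ∣ 15)]
    rw [this]; norm_num)
  obtain ⟨g, hg⟩ := MulAction.exists_smul_eq A5 P0 P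
  have hPm : (P : Subgroup A5) = fourA5.map (MulAut.conj g).toMonoidHom := by
    rw [← hg, Sylow.coe_subgroup_smul, Subgroup.pointwise_smul_def]; rfl
  let φ : A5 ≃* A5 := MulAut.conj g
  have hN : normalizer ((P : Subgroup A5) : Set A5) = (normalizer (fourA5 : Set A5)).map φ.toMonoidHom := by
    rw [hPm]; exact normalizer_map_equiv φ fourA5
  have hC : centralizer ((P : Subgroup A5) : Set A5) = (centralizer (fourA5 : Set A5)).map φ.toMonoidHom := by
    rw [hPm]; exact centralizer_map_equiv φ fourA5
  refine ⟨?_, ?_⟩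
  · have hle : centralizer ((P : Subgroup A5) : Set A5) ≤ normalizer ((P : Subgroup A5) : Set A5) := by
      intro a ha
      rw [mem_normalizer_iff]
      intro x
      rw [mem_centralizer_iff] at ha
      constructor
      · intro hx; rwa [← ha x hx, mul_inv_cancel_right]
      · intro hx
        have h2 := ha _ hx
        have h3 : a * x * a⁻¹ = x := by
          have h4 : a * x = a * (a * x * a⁻¹) := by rw [← h2]; group
          exact (mul_left_cancel h4).symm
        rwa [h3] at hx
    have h1 := card_mul_index ((centralizer ((P : Subgroup A5) : Set A5)).subgroupOf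
      (normalizer ((P : Subgroup A5) : Set A5)))
    rw [Nat.card_congr (subgroupOfEquivOfLe hle).toEquiv, hN, hC,
      Nat.card_congr ((Subgroup.equivMapOfInjective _ φ.toMonoidHom φ.injective).symm.toEquiv),
      Nat.card_congr ((Subgroup.equivMapOfInjective _ φ.toMonoidHom φ.injective).symm.toEquiv),
      nat_card_centralizer_fourA5, nat_card_normalizer_fourA5] at h1
    rw [hN, hC]; omega
  · rw [hPm]
    have := isKleinFour_fourA5
    let e := Subgroup.equivMapOfInjective fourA5 (MulAut.conj g).toMonoidHom (MulAut.conj g).injective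
    exact ⟨(Nat.card_congr e.symm.toEquiv).trans nat_card_fourA5,
      (Monoid.exponent_eq_of_mulEquiv e).symm.trans this.exponent_two⟩

end CfsgLib.SymAutomizer
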