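import Mathlib

/-! Automizers of abelian Sylow subgroups: inversion by a fusion argument, and Sylow facts for `S_n`. -/

set_option autoImplicit false

namespace CfsgLib.SymAutomizer

open Subgroup

variable {G : Type*} [Group G]

/-- If some non-self-inverse element of an abelian Sylow subgroup `P` is conjugate to its inverse, then
`N(P)/C(P)` has even order. -/
theorem two_dvd_index_of_conj_inv [Finite G] {p : ℕ} [Fact p.Prime] (P : Sylow p G)
    (hP : IsMulCommutative (P : Subgroup G)) {x g : G} (hx : x ∈ (P : Subgroup G)) (hne : x⁻¹ ≠ x)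
    (hg : g⁻¹ * x * g = x⁻¹) :
    2 ∣ ((centralizer ((P : Subgroup G) : Set G)).subgroupOf
      (normalizer ((P : Subgroup G) : Set G))).index := by
  obtain ⟨m, hm, hmx⟩ := P.conj_eq_normalizer_conj_of_mem x g hx (by rw [hg]; exact inv_mem hx)
  rw [hg] at hmx
  set K := (centralizer ((P : Subgroup G) : Set G)).subgroupOf
      (normalizer ((P : Subgroup G) : Set G)) with hK
  have hKn : K.Normal := by
    constructor
    rintro ⟨c, hc0⟩ hc ⟨a, ha⟩
    rw [hK, mem_subgroupOf] at hc ⊢
    rw [mem_centralizer_iff] at hc ⊢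
    intro y hy
    have hy' : a⁻¹ * y * a ∈ (P : Subgroup G) := by
      rw [mem_normalizer_iff] at ha
      have := (ha (a⁻¹ * y * a)).2 (by rw [show a * (a⁻¹ * y * a) * a⁻¹ = y by group]; exact hy)
      exact this
    have := hc _ hy'
    simp only [Subgroup.coe_mul, InvMemClass.coe_inv] at this ⊢
    calc y * (a * c * a⁻¹) = a * ((a⁻¹ * y * a) * c) * a⁻¹ := by group
      _ = a * (c * (a⁻¹ * y * a)) * a⁻¹ := by rw [this]
      _ = _ := by group
  rcases Nat.even_or_odd K.index with h | h
  · exact h.two_dvd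
  exfalso
  have hmem := Subgroup.pow_index_mem K (⟨m, hm⟩ : normalizer ((P : Subgroup G) : Set G))
  rw [hK, mem_subgroupOf, mem_centralizer_iff] at hmem
  have h1 := hmem x hx
  simp only [SubmonoidClass.coe_pow] at h1
  have key : ∀ k : ℕ, (m ^ k)⁻¹ * x * m ^ k = if Odd k then x⁻¹ else x := by
    intro k
    induction k with
    | zero => simp
    | succ k ih =>
      have : (m ^ (k + 1))⁻¹ * x * m ^ (k + 1) = m⁻¹ * ((m ^ k)⁻¹ * x * m ^ k) * m := by
        rw [pow_succ]; group
      rw [this, ih]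
      by_cases hk : Odd k
      · rw [if_pos hk, if_neg (Nat.not_odd_iff_even.2 hk.add_one)]
        have h2 : m⁻¹ * x⁻¹ * m = (m⁻¹ * x * m)⁻¹ := by group
        rw [h2, ← hmx, inv_inv]
      · rw [if_neg hk, if_pos (Nat.not_odd_iff_even.1 hk).add_one, ← hmx]
  have h2 := key K.index
  rw [if_pos h] at h2
  apply hne
  rw [← h2]
  change x * m ^ K.index = m ^ K.index * x at h1
  rw [mul_assoc, h1, inv_mul_cancel_left]

/-- Every element of a symmetric group is conjugate to its inverse. -/
theorem exists_conj_eq_inv {α : Type*} [Fintype α] [DecidableEq α] (σ : Equiv.Perm α) :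
    ∃ g : Equiv.Perm α, g⁻¹ * σ * g = σ⁻¹ := by
  obtain ⟨g, hg⟩ := isConj_iff.1 (Equiv.Perm.isConj_iff_cycleType_eq.2 (Equiv.Perm.cycleType_inv σ).symm)
  exact ⟨g⁻¹, by simpa using hg⟩

theorem not_sq_dvd_factorial {p m : ℕ} (hp : p.Prime) (hm : m < 2 * p) : ¬ p ^ 2 ∣ m.factorial := by
  induction m with
  | zero => intro h; have := Nat.le_of_dvd one_pos h; have := hp.two_le; simp at *; omega
  | succ k ih =>
    intro h
    rw [Nat.factorial_succ] at h
    by_cases hk : p ∣ k + 1
    · obtain ⟨c, hc⟩ := hk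
      have hc1 : c = 1 := by rcases c with _ | _ | c <;> [omega; rfl; nlinarith]
      subst hc1
      rw [hc, mul_one, sq] at h
      have h' := Nat.dvd_of_mul_dvd_mul_left hp.pos h
      have := (Nat.Prime.dvd_factorial hp).1 h'
      omega
    · exact ih (by omega) ((Nat.Coprime.pow_left 2 (hp.coprime_iff_not_dvd.2 hk)).dvd_of_dvd_mul_left h)

/-- Some element of order `p ≤ n` in every Sylow subgroup, of the same cycle type as a given one. -/
theorem exists_conj_mem_sylow [Finite G] {p : ℕ} [Fact p.Prime] (P : Sylow p G) {c : G}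
    (hc : orderOf c = p) : ∃ g : G, g * c * g⁻¹ ∈ (P : Subgroup G) := by
  have hpg : IsPGroup p (zpowers c) := IsPGroup.of_card (n := 1) (by rw [Nat.card_zpowers, hc, pow_one])
  obtain ⟨Q, hQ⟩ := hpg.exists_le_sylow
  obtain ⟨g, hg⟩ := MulAction.exists_smul_eq G Q P
  refine ⟨g, ?_⟩
  rw [← hg, Sylow.coe_subgroup_smul, mem_pointwise_smul_iff_inv_smul_mem]
  simpa [MulAut.smul_def, mul_assoc] using hQ (mem_zpowers c)

end CfsgLib.SymAutomizer
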